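import Groth.Agent.Ega11.SchemeDimFormula
import Groth.Agent.Cyc90.FlatRelDim
import Groth.Agent.Norm57.GenPoints

/-!
Dimension of a scheme locally of finite type over a locally Noetherian base.
-/

set_option autoImplicit false
set_option backward.isDefEq.respectTransparency.types false
universe u

open CategoryTheory AlgebraicGeometry TopologicalSpace Groth.Agent.E4O

namespace Groth.Agent.Dim57

variable {X Y : Scheme.{u}}

theorem topologicalKrullDim_eq (X : Scheme.{u}) : topologicalKrullDim X = Order.krullDim X :=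
  Order.krullDim_eq_of_orderIso (irreducibleSetEquivPoints (α := X))

theorem le_iff_specializes {x y : X} : x ≤ y ↔ y ⤳ x := Iff.rfl

theorem isMax'_of_isMin {f : X ⟶ Y} (C : Chart f) {m : PrimeSpectrum C.B} (hm : IsMin m) :
    Norm57.IsMax' (C.pt m) := by
  intro w hw
  obtain ⟨w', rfl⟩ : w ∈ Set.range C.pt := hw.mem_open C.isOpen_range ⟨m, rfl⟩
  have h := (C.specializes_iff w' m).1 hw
  rw [le_antisymm (show w' ≤ m from h) (hm h)]

/-- The dimension inequality at a point, with any bound on the transcendence degrees of the components. -/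
theorem stalk_dim_add_le [IsLocallyNoetherian Y] (f : X ⟶ Y) [LocallyOfFiniteType f] (x : X) (E : ℕ)
    (hE : ∀ ξ : X, Norm57.IsMax' ξ → ξ ⤳ x → fdeg f ξ ≤ E) :
    ringKrullDim (X.presheaf.stalk x) + (fdeg f x : ℕ) ≤ ringKrullDim (Y.presheaf.stalk (f x)) + (E : ℕ) := by
  obtain ⟨C, ⟨q, rfl⟩, hA⟩ := exists_chart f x
  have := hA inferInstance
  have : IsNoetherianRing C.B := Algebra.FiniteType.isNoetherianRing C.A _
  obtain ⟨m, hmq, hmin, hrel⟩ := exists_minimal_relHeight_eq q
  have hEm : fdeg f (C.pt m) ≤ E :=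
    hE _ (isMax'_of_isMin C hmin) ((C.specializes_iff m q).2 hmq)
  rw [C.ringKrullDim_stalk, C.apply, C.ringKrullDim_stalkY, ← hrel]
  have h1 := C.relHeight_add_fdeg_le m q hmq
  have h2 := add_le_add (relHeight_le_height (PrimeSpectrum.comap (algebraMap C.A C.B) m)
    (PrimeSpectrum.comap (algebraMap C.A C.B) q)) (Nat.cast_le.2 hEm : (fdeg f (C.pt m) : ℕ∞) ≤ E)
  exact WithBot.coe_le_coe.mpr (h1.trans h2)

theorem dim_le_add [IsLocallyNoetherian Y] (f : X ⟶ Y) [LocallyOfFiniteType f] (E : ℕ)
    (hE : ∀ ξ : X, Norm57.IsMax' ξ → fdeg f ξ ≤ E) :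
    topologicalKrullDim X ≤ topologicalKrullDim Y + (E : ℕ) :=
  Ega11.SchemeDimFormula.dim_le_of_stalk X fun x => by
    refine le_trans (le_trans ?_ (stalk_dim_add_le f x E fun ξ h _ => hE ξ h))
      (add_le_add (Ega11.SchemeDimFormula.stalk_dim_le Y (f x)) le_rfl)
    exact le_add_of_nonneg_right (by exact_mod_cast Nat.zero_le _)

/-- Chains lift along closed maps. -/
theorem exists_lift_chain (f : X ⟶ Y) (hf : IsClosedMap f.base) :
    ∀ (l : LTSeries Y) (a : X), f a = l.last → ∃ l' : LTSeries X, l'.last = a ∧ l'.length = l.length := by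
  intro l
  induction l using RelSeries.inductionOn' with
  | singleton y => exact fun a _ => ⟨RelSeries.singleton _ a, rfl, rfl⟩
  | snoc p y hy ih =>
    intro a ha
    rw [RelSeries.last_snoc] at ha
    have hs : f a ⤳ p.last := ha.symm ▸ le_iff_specializes.1 (le_of_lt hy)
    have hmem : p.last ∈ f.base '' closure {a} :=
      hs.mem_closed (hf _ isClosed_closure) ⟨a, subset_closure rfl, rfl⟩
    obtain ⟨b, hb, hfb⟩ := hmem
    obtain ⟨l', hl', hlen⟩ := ih b hfb
    have hba : b < a := by
      refine lt_of_le_not_ge (le_iff_specializes.2 (specializes_iff_mem_closure.2 hb)) fun h => ?_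
      have h' : y ≤ p.last := by
        rw [← hfb, ← ha]
        exact (le_iff_specializes.1 h).map f.continuous
      exact not_le_of_gt hy h'
    refine ⟨l'.snoc a (hl'.symm ▸ hba), RelSeries.last_snoc _ _ _, ?_⟩
    simp [RelSeries.snoc, hlen]

/-- A closed dominant morphism with generic fibre of dimension `n` raises the dimension by `n`. -/
theorem add_le_dim [IrreducibleSpace X] [IrreducibleSpace Y] (f : X ⟶ Y) [IsDominant f]
    [LocallyOfFiniteType f] (hf : IsClosedMap f.base) :
    topologicalKrullDim Y + (fdeg f (genericPoint X) : ℕ) ≤ topologicalKrullDim X := by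
  have hη : ∀ y : Y, f (genericPoint X) ⤳ y :=
    Ega11.SchemeDimFormula.specializes_of_denseRange f f.denseRange
  set η := f (genericPoint X) with hη'
  have hd : topologicalKrullDim ↥(f.fiber η) = (fdeg f (genericPoint X) : ℕ) :=
    le_antisymm ((dim_fiber_le_iff f _ _).2 fun x hx =>
      Nat.cast_le.2 (fdeg_le (genericPoint_specializes x) hx.symm)) (le_dim_fiber f _)
  rw [topologicalKrullDim_eq] at hd
  obtain ⟨r, hr⟩ := Order.le_krullDim_iff.1 hd.ge
  have hmono : StrictMono (f.fiberι η) := fun a b hab => by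
    refine lt_of_le_not_ge (hab.le.map (f.fiberι η).continuous) fun h => ?_
    exact not_le_of_gt hab ((f.fiberι η).isEmbedding.isInducing.specializes_iff.1 h)
  let r' : LTSeries X := r.map _ hmono
  rw [topologicalKrullDim_eq, topologicalKrullDim_eq]
  refine Ega11.SchemeDimFormula.iSup_add_le _ _ _ fun l => ?_
  obtain ⟨l₁, hl₁, hlast⟩ : ∃ l₁ : LTSeries Y, l.length ≤ l₁.length ∧ l₁.last = η := by
    by_cases h : l.last = η
    · exact ⟨l, le_rfl, h⟩
    · refine ⟨l.snoc η ?_, by simp [RelSeries.snoc, RelSeries.append], RelSeries.last_snoc _ _ _⟩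
      exact lt_of_le_not_ge (le_iff_specializes.2 (hη _)) fun h' =>
        h (((le_iff_specializes.1 h').antisymm (hη _)).eq)
  have hhead : f r'.head = l₁.last := by
    rw [hlast]
    exact (f.fiberHomeo η r.head).2
  obtain ⟨l', hl', hlen⟩ := exists_lift_chain f hf l₁ r'.head hhead
  have hle := Order.LTSeries.length_le_krullDim (RelSeries.smash l' r' hl')
  refine le_trans ?_ hle
  simp only [RelSeries.smash_length]
  rw [hlen]
  have : r'.length = fdeg f (genericPoint X) := hr
  rw [this]
  exact_mod_cast Nat.add_le_add_right hl₁ _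

end Groth.Agent.Dim57
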